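import Groth.Agent.ComodLib.Invariants

/-!
# An algebra with an action of a linearly reductive group is of finite type over the invariants

`A` is identified with the invariants of `A ⊗ H` for the right regular coaction, an algebra of finite
type over `A` through the coaction; Hilbert's finiteness theorem applies to it.
-/

set_option autoImplicit false

universe u v w

open TensorProduct

noncomputable section

namespace Groth.Agent.LunaFT

open Groth.Agent.ComodLib

variable (k : Type u) [Field k] (H : Type v) [CommRing H] [HopfAlgebra k H]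
  (A : Type w) [CommRing A] [Algebra k A]

/-- The right regular coaction on `A ⊗ H`, as an algebra map. -/
def coactHom : A ⊗[k] H →ₐ[k] (A ⊗[k] H) ⊗[k] H :=
  (Algebra.TensorProduct.assoc k k k A H H).symm.toAlgHom.comp
    (Algebra.TensorProduct.map (AlgHom.id k A) (Bialgebra.comulAlgHom k H))

theorem coactHom_tmul (a : A) (h : H) :
    coactHom k H A (a ⊗ₜ[k] h) = (TensorProduct.assoc k A H H).symm (a ⊗ₜ[k] Coalgebra.comul (R := k) h) := rfl

/-- The comodule `A ⊗ H`. -/
def comod : HopfRep.Comod k H (A ⊗[k] H) where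
  coact := (coactHom k H A).toLinearMap
  coassoc := by
    refine TensorProduct.ext' fun a h => ?_
    simp only [LinearMap.comp_apply, AlgHom.toLinearMap_apply, coactHom_tmul, LinearEquiv.coe_coe]
    have hc := Coalgebra.coassoc_apply (R := k) h
    have e1 : ∀ z : H ⊗[k] H, TensorProduct.assoc k (A ⊗[k] H) H H
        ((coactHom k H A).toLinearMap.rTensor H ((TensorProduct.assoc k A H H).symm (a ⊗ₜ[k] z))) =
        (TensorProduct.assoc k A H (H ⊗[k] H)).symm
          (a ⊗ₜ[k] TensorProduct.assoc k H H H ((Coalgebra.comul (R := k)).rTensor H z)) := fun z => by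
      induction z using TensorProduct.induction_on with
      | zero => simp
      | add p q hp hq => simp only [tmul_add, map_add, hp, hq]
      | tmul p q =>
        simp only [TensorProduct.assoc_symm_tmul, LinearMap.rTensor_tmul, AlgHom.toLinearMap_apply, coactHom_tmul]
        induction Coalgebra.comul (R := k) p using TensorProduct.induction_on with
        | zero => simp
        | add r s hr hs => simp only [tmul_add, map_add, add_tmul, hr, hs]
        | tmul r s => simp
    have e2 : ∀ z : H ⊗[k] H, (Coalgebra.comul (R := k) (A := H)).lTensor (A ⊗[k] H)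
        ((TensorProduct.assoc k A H H).symm (a ⊗ₜ[k] z)) =
        (TensorProduct.assoc k A H (H ⊗[k] H)).symm (a ⊗ₜ[k] (Coalgebra.comul (R := k)).lTensor H z) := fun z => by
      induction z using TensorProduct.induction_on with
      | zero => simp
      | add p q hp hq => simp only [tmul_add, map_add, hp, hq]
      | tmul p q => simp
    rw [e1, e2, hc]
  counit_comp := by
    refine TensorProduct.ext' fun a h => ?_
    simp only [LinearMap.comp_apply, AlgHom.toLinearMap_apply, coactHom_tmul]
    have e1 : ∀ z : H ⊗[k] H, (Coalgebra.counit (R := k) (A := H)).lTensor (A ⊗[k] H)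
        ((TensorProduct.assoc k A H H).symm (a ⊗ₜ[k] z)) =
        (TensorProduct.assoc k A H k).symm (a ⊗ₜ[k] (Coalgebra.counit (R := k)).lTensor H z) := fun z => by
      induction z using TensorProduct.induction_on with
      | zero => simp
      | add p q hp hq => simp only [tmul_add, map_add, hp, hq]
      | tmul p q => simp
    rw [e1, Coalgebra.lTensor_counit_comul]
    simp

attribute [local instance] comod

theorem isCoactAlg : GLin.IsCoactAlg k H (A ⊗[k] H) :=
  ⟨map_one (coactHom k H A), map_mul (coactHom k H A)⟩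

variable [HopfRep.Comod k H A] [GLin.IsCoactAlg k H A]

/-- The coaction as an algebra map. -/
def rho : A →ₐ[k] A ⊗[k] H :=
  AlgHom.ofLinearMap (HopfRep.Comod.coact (k := k) (A := H)) GLin.IsCoactAlg.coact_one GLin.IsCoactAlg.coact_mul

theorem rho_apply (a : A) : rho k H A a = HopfRep.Comod.coact (k := k) (A := H) a := rfl

theorem isComodHom_rho : Hoch.IsComodHom H (rho k H A).toLinearMap := by
  refine LinearMap.ext fun a => ?_
  have hc := congrArg (TensorProduct.assoc k A H H).symm
    (LinearMap.congr_fun (HopfRep.Comod.coassoc (k := k) (A := H) (V := A)) a)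
  simp only [LinearMap.comp_apply, LinearEquiv.coe_coe, LinearEquiv.symm_apply_apply] at hc
  show coactHom k H A (rho k H A a) = (rho k H A).toLinearMap.rTensor H (HopfRep.Comod.coact (k := k) (A := H) a)
  rw [rho_apply, show (rho k H A).toLinearMap = HopfRep.Comod.coact (k := k) (A := H) from rfl, hc]
  induction HopfRep.Comod.coact (k := k) (A := H) a using TensorProduct.induction_on with
  | zero => simp
  | add p q hp hq => simp only [map_add, hp, hq]
  | tmul p q => simp [coactHom_tmul]

theorem tmul_one_eq (y : A) :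
    y ⊗ₜ[k] (1 : H) = (LinearMap.mul' k (A ⊗[k] H) ∘ₗ TensorProduct.map LinearMap.id
      ((TensorProduct.mk k A H 1) ∘ₗ HopfAlgebra.antipode k))
      ((HopfRep.Comod.coact (k := k) (A := H)).rTensor H (HopfRep.Comod.coact (k := k) (A := H) y)) := by
  set G := LinearMap.mul' k (A ⊗[k] H) ∘ₗ TensorProduct.map LinearMap.id
      ((TensorProduct.mk k A H 1) ∘ₗ HopfAlgebra.antipode k) with hG
  have hc := congrArg (TensorProduct.assoc k A H H).symm
    (LinearMap.congr_fun (HopfRep.Comod.coassoc (k := k) (A := H) (V := A)) y)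
  simp only [LinearMap.comp_apply, LinearEquiv.coe_coe, LinearEquiv.symm_apply_apply] at hc
  have e1 : ∀ w : A ⊗[k] H, G ((TensorProduct.assoc k A H H).symm ((Coalgebra.comul (R := k)).lTensor A w)) =
      (Algebra.linearMap k H ∘ₗ Coalgebra.counit).lTensor A w := fun w => by
    induction w using TensorProduct.induction_on with
    | zero => simp
    | add p q hp hq => simp only [map_add, hp, hq]
    | tmul x a =>
      have e2 : ∀ y : H ⊗[k] H, G ((TensorProduct.assoc k A H H).symm (x ⊗ₜ[k] y)) =
          x ⊗ₜ[k] LinearMap.mul' k H ((HopfAlgebra.antipode k).lTensor H y) := fun y => by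
        induction y using TensorProduct.induction_on with
        | zero => simp
        | add p q hp hq => simp only [tmul_add, map_add, hp, hq]
        | tmul p q => simp [G]
      rw [LinearMap.lTensor_tmul, e2, HopfAlgebra.mul_antipode_lTensor_comul_apply]
      rfl
  rw [hc, e1, LinearMap.lTensor_comp, LinearMap.comp_apply]
  have h2 := LinearMap.congr_fun (HopfRep.Comod.counit_comp (k := k) (A := H) (V := A)) y
  simp only [LinearMap.comp_apply, LinearMap.flip_apply, TensorProduct.mk_apply] at h2
  rw [h2]
  simp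

variable {k H A}

variable (k H A) in
/-- `A ⊗ H` as an algebra over `A` through the coaction. -/
def Tw : Type max w v := A ⊗[k] H

instance : CommRing (Tw k H A) := inferInstanceAs (CommRing (A ⊗[k] H))
instance : Algebra k (Tw k H A) := inferInstanceAs (Algebra k (A ⊗[k] H))
instance : HopfRep.Comod k H (Tw k H A) := comod k H A
instance : GLin.IsCoactAlg k H (Tw k H A) := isCoactAlg k H A
instance : Algebra A (Tw k H A) := (rho k H A).toRingHom.toAlgebra
instance : IsScalarTower k A (Tw k H A) := IsScalarTower.of_algebraMap_eq fun c => ((rho k H A).commutes c).symm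

theorem finiteType_tw [Algebra.FiniteType k H] : Algebra.FiniteType A (Tw k H A) := by
  classical
  obtain ⟨gens, hgens⟩ := (Algebra.FiniteType.out : (⊤ : Subalgebra k H).FG)
  let inr : H →ₐ[k] Tw k H A := (Algebra.TensorProduct.includeRight : H →ₐ[k] A ⊗[k] H)
  let T : Subalgebra A (Tw k H A) := Algebra.adjoin A (↑(gens.image inr) : Set (Tw k H A))
  have hR : ∀ h : H, inr h ∈ T := fun h => by
    have : (⊤ : Subalgebra k H) ≤ (T.restrictScalars k).comap inr := by
      rw [← hgens]
      exact Algebra.adjoin_le fun g hg => Algebra.subset_adjoin (Finset.mem_image_of_mem _ hg)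
    exact this Algebra.mem_top
  let S : Submodule k (A ⊗[k] H) := Subalgebra.toSubmodule (T.restrictScalars k)
  have hmul : ∀ x y : A ⊗[k] H, x ∈ S → y ∈ S → x * y ∈ S := fun x y hx hy =>
    (T.restrictScalars k).mul_mem hx hy
  have hA : ∀ p : A, rho k H A p ∈ S := fun p => T.algebraMap_mem p
  have hH : ∀ h : H, (1 : A) ⊗ₜ[k] h ∈ S := hR
  have hL : ∀ a : A, a ⊗ₜ[k] (1 : H) ∈ S := fun a => by
    rw [tmul_one_eq k H A a]
    induction HopfRep.Comod.coact (k := k) (A := H) a using TensorProduct.induction_on with
    | zero => simp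
    | add p q hp hq => simp only [map_add]; exact S.add_mem hp hq
    | tmul p q =>
      simp only [LinearMap.rTensor_tmul, LinearMap.comp_apply, TensorProduct.map_tmul, LinearMap.id_apply,
        LinearMap.mul'_apply, TensorProduct.mk_apply]
      exact hmul _ _ (hA p) (hH _)
  have hall : ∀ x : A ⊗[k] H, x ∈ S := fun x => by
    induction x using TensorProduct.induction_on with
    | zero => exact S.zero_mem
    | add p q hp hq => exact S.add_mem hp hq
    | tmul p q =>
      rw [show p ⊗ₜ[k] q = (p ⊗ₜ[k] (1 : H)) * ((1 : A) ⊗ₜ[k] q) by simp]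
      exact hmul _ _ (hL p) (hH q)
  exact ⟨⟨gens.image inr, eq_top_iff.2 fun x _ => hall x⟩⟩

theorem finiteType [Algebra.FiniteType k H] [IsNoetherianRing A] {α : H →ₗ[k] k} (hα : IsIntegral k α)
    (h1 : α 1 = 1) : Algebra.FiniteType ↥(GLin.invariants k H A) A := by
  classical
  haveI := finiteType_tw (k := k) (H := H) (A := A)
  obtain ⟨s, hs⟩ := exists_finset_invariants_eq_adjoin (R := A) (C := Tw k H A) (isComodHom_rho k H A) hα h1
  let π₀ : A ⊗[k] H →ₐ[k] A := (Algebra.TensorProduct.rid k k A).toAlgHom.comp
    (Algebra.TensorProduct.map (AlgHom.id k A) (Bialgebra.counitAlgHom k H))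
  have hπ : ∀ r : A, π₀ (r ⊗ₜ[k] (1 : H)) = r := fun r => by simp [π₀]
  let π : Tw k H A →ₐ[k] A := π₀
  refine ⟨⟨s.image π, eq_top_iff.2 fun a _ => ?_⟩⟩
  set T' := Algebra.adjoin (↥(GLin.invariants k H A)) (↑(s.image π) : Set A)
  have hfix : ∀ b : A, coactHom k H A (b ⊗ₜ[k] (1 : H)) = (b ⊗ₜ[k] (1 : H)) ⊗ₜ[k] (1 : H) := fun b => by
    rw [coactHom_tmul, Bialgebra.comul_one, Algebra.TensorProduct.one_def, TensorProduct.assoc_symm_tmul]
  let x₀ : Tw k H A := (a ⊗ₜ[k] (1 : H) : A ⊗[k] H)
  have hmem : x₀ ∈ GLin.invariants k H (Tw k H A) := hfix a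
  rw [hs] at hmem
  have hle : Algebra.adjoin k (⇑(algebraMap A (Tw k H A)) '' ↑(GLin.invariants k H A) ∪ ↑s) ≤
      (T'.restrictScalars k).comap π := by
    refine Algebra.adjoin_le ?_
    rintro x (⟨r, hr, rfl⟩ | hx)
    · show π₀ (rho k H A r) ∈ T'
      rw [rho_apply, show HopfRep.Comod.coact (k := k) (A := H) r = r ⊗ₜ[k] (1 : H) from hr, hπ]
      exact T'.algebraMap_mem ⟨r, hr⟩
    · exact Algebra.subset_adjoin (Finset.mem_image_of_mem π hx)
  have h2 : π₀ (a ⊗ₜ[k] (1 : H)) ∈ T' := hle hmem
  rwa [hπ] at h2

end Groth.Agent.LunaFT
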