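import Groth.Agent.ComodLib.Invariants
import Groth.Agent.AdicLib.Basic

/-!
# Fixed vectors are separated and complete
-/

set_option autoImplicit false

universe u v w w'

open TensorProduct

noncomputable section

namespace Groth.Agent.LunaFT

section Chevalley

variable {R : Type w} [CommRing R] [IsNoetherianRing R] [IsLocalRing R]
  {M : Type w'} [AddCommGroup M] [Module R M] [Module.Finite R M]

theorem exists_stable (n : ℕ) (F : ℕ → Submodule R M) (hanti : Antitone F) :
    ∃ q₀, ∀ q, q₀ ≤ q → F q₀ ≤ F q ⊔ (IsLocalRing.maximalIdeal R) ^ n • ⊤ := by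
  let P : Submodule R M := (IsLocalRing.maximalIdeal R) ^ n • ⊤
  haveI : IsArtinianRing (R ⧸ (IsLocalRing.maximalIdeal R) ^ n) := by
    haveI : Ring.KrullDimLE 0 (R ⧸ (IsLocalRing.maximalIdeal R) ^ n) := Ring.krullDimLE_zero_iff.mpr fun Q hQ => by
      have hQ' := hQ.comap (Ideal.Quotient.mk ((IsLocalRing.maximalIdeal R) ^ n))
      have hle : (IsLocalRing.maximalIdeal R) ≤ Q.comap (Ideal.Quotient.mk ((IsLocalRing.maximalIdeal R) ^ n)) := hQ'.le_of_pow_le (n := n) fun x hx => by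
        rw [Ideal.mem_comap, Ideal.Quotient.eq_zero_iff_mem.2 hx]; exact Q.zero_mem
      have he : Q.comap (Ideal.Quotient.mk ((IsLocalRing.maximalIdeal R) ^ n)) = (IsLocalRing.maximalIdeal R) :=
        ((IsLocalRing.maximalIdeal.isMaximal R).eq_of_le hQ'.ne_top hle).symm
      refine ⟨⟨hQ.ne_top, fun J hJ => ?_⟩⟩
      by_contra h
      have hlt : Q.comap (Ideal.Quotient.mk ((IsLocalRing.maximalIdeal R) ^ n)) < J.comap (Ideal.Quotient.mk ((IsLocalRing.maximalIdeal R) ^ n)) :=
        lt_of_le_of_ne (Ideal.comap_mono hJ.le) fun e =>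
          hJ.ne (Ideal.comap_injective_of_surjective _ Ideal.Quotient.mk_surjective e)
      rw [he] at hlt
      exact h (by
        rw [← Ideal.map_comap_of_surjective _ Ideal.Quotient.mk_surjective J,
          (IsLocalRing.maximalIdeal.isMaximal R).1.2 _ hlt, Ideal.map_top])
    haveI : IsNoetherianRing (R ⧸ (IsLocalRing.maximalIdeal R) ^ n) :=
      isNoetherianRing_of_surjective R (R ⧸ (IsLocalRing.maximalIdeal R) ^ n) (Ideal.Quotient.mk _) Ideal.Quotient.mk_surjective
    exact IsNoetherianRing.isArtinianRing_of_krullDimLE_zero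
  have htor : Module.IsTorsionBySet R (M ⧸ P) ((IsLocalRing.maximalIdeal R) ^ n : Ideal R) := by
    rintro y ⟨r, hr⟩
    obtain ⟨y, rfl⟩ := Submodule.Quotient.mk_surjective P y
    rw [← Submodule.Quotient.mk_smul, Submodule.Quotient.mk_eq_zero]
    exact Submodule.smul_mem_smul hr Submodule.mem_top
  letI := htor.module
  haveI : IsScalarTower R (R ⧸ (IsLocalRing.maximalIdeal R) ^ n) (M ⧸ P) := htor.isScalarTower
  haveI : Module.Finite (R ⧸ (IsLocalRing.maximalIdeal R) ^ n) (M ⧸ P) := Module.Finite.of_restrictScalars_finite R _ _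
  haveI : IsArtinian R (M ⧸ P) :=
    isArtinian_of_surjective_algebraMap (R := R ⧸ (IsLocalRing.maximalIdeal R) ^ n) (S := R) Ideal.Quotient.mk_surjective
  let f : ℕ →o (Submodule R (M ⧸ P))ᵒᵈ :=
    ⟨fun q => OrderDual.toDual ((F q).map P.mkQ), fun p q h => OrderDual.toDual_le_toDual.2 (Submodule.map_mono (hanti h))⟩
  obtain ⟨q₀, hq₀⟩ := IsArtinian.monotone_stabilizes f
  refine ⟨q₀, fun q hq x hx => ?_⟩
  have h : (F q₀).map P.mkQ = (F q).map P.mkQ := OrderDual.toDual.injective (hq₀ q hq)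
  have h1 : P.mkQ x ∈ (F q).map P.mkQ := h ▸ Submodule.mem_map_of_mem hx
  rw [← Submodule.mem_comap, Submodule.comap_map_eq, Submodule.ker_mkQ] at h1
  exact h1

theorem mem_of_forall_mem_sup (F : Submodule R M) {x : M} (h : ∀ n : ℕ, x ∈ F ⊔ (IsLocalRing.maximalIdeal R) ^ n • ⊤) : x ∈ F := by
  have h1 : F.mkQ x ∈ (⨅ i : ℕ, (IsLocalRing.maximalIdeal R) ^ i • ⊤ : Submodule R (M ⧸ F)) := by
    refine (Submodule.mem_iInf _).2 fun n => ?_
    have h2 := Submodule.mem_map_of_mem (f := F.mkQ) (h n)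
    rw [Submodule.map_sup, Submodule.mkQ_map_self, bot_sup_eq, Submodule.map_smul''] at h2
    exact Submodule.smul_mono le_rfl le_top h2
  rw [Ideal.iInf_pow_smul_eq_bot_of_isLocalRing (IsLocalRing.maximalIdeal R) (IsLocalRing.maximalIdeal.isMaximal R).ne_top, Submodule.mem_bot] at h1
  exact (Submodule.Quotient.mk_eq_zero F).1 h1

variable [IsAdicComplete (IsLocalRing.maximalIdeal R) R]

/-- Chevalley's lemma for modules. -/
theorem chevalley (F : ℕ → Submodule R M) (hanti : Antitone F) (hbot : ∀ x, (∀ q, x ∈ F q) → x = 0) (N : ℕ) :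
    ∃ q, F q ≤ (IsLocalRing.maximalIdeal R) ^ N • ⊤ := by
  haveI := AdicLib.isAdicComplete_of_finite (IsLocalRing.maximalIdeal R) M
  have hle : ∀ {i j : ℕ}, i ≤ j → ((IsLocalRing.maximalIdeal R) ^ j • ⊤ : Submodule R M) ≤ (IsLocalRing.maximalIdeal R) ^ i • ⊤ := fun h =>
    Submodule.smul_mono (Ideal.pow_le_pow_right h) le_rfl
  choose Q hQ using fun n => exists_stable n F hanti
  refine ⟨Q N, fun x hx => ?_⟩
  have step : ∀ n y, y ∈ F (Q n) ⊔ (IsLocalRing.maximalIdeal R) ^ n • ⊤ →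
      ∃ z ∈ F (Q (n + 1)) ⊔ (IsLocalRing.maximalIdeal R) ^ (n + 1) • ⊤, z - y ∈ ((IsLocalRing.maximalIdeal R) ^ n • ⊤ : Submodule R M) := by
    intro n y hy
    have h : F (Q n) ⊔ (IsLocalRing.maximalIdeal R) ^ n • ⊤ ≤ F (Q (n + 1)) ⊔ (IsLocalRing.maximalIdeal R) ^ n • ⊤ :=
      sup_le ((hQ n (max (Q n) (Q (n + 1))) (le_max_left _ _)).trans
        (sup_le_sup_right (hanti (le_max_right _ _)) _)) le_sup_right
    obtain ⟨a, ha, b, hb, rfl⟩ := Submodule.mem_sup.1 (h hy)
    exact ⟨a, Submodule.mem_sup_left ha, by simpa using hb⟩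
  choose g hg hg' using step
  let seq : ∀ i : ℕ, {y : M // y ∈ F (Q (N + i)) ⊔ (IsLocalRing.maximalIdeal R) ^ (N + i) • ⊤} := fun i =>
    Nat.rec ⟨x, Submodule.mem_sup_left hx⟩ (fun i y => ⟨g _ y.1 y.2, hg _ y.1 y.2⟩) i
  have hs : ∀ i j, i ≤ j → (seq j).1 - (seq i).1 ∈ ((IsLocalRing.maximalIdeal R) ^ (N + i) • ⊤ : Submodule R M) := by
    intro i j hij
    induction j, hij using Nat.le_induction with
    | base => simp
    | succ j hij ih =>
      have h1 : (seq (j + 1)).1 - (seq j).1 ∈ ((IsLocalRing.maximalIdeal R) ^ (N + i) • ⊤ : Submodule R M) :=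
        hle (by omega) (hg' (N + j) (seq j).1 (seq j).2)
      simpa using add_mem h1 ih
  obtain ⟨L, hL⟩ := IsPrecomplete.prec' (I := (IsLocalRing.maximalIdeal R)) (fun i => (seq i).1) fun {i j} hij => by
    rw [SModEq.sub_mem, ← neg_mem_iff, neg_sub]
    exact hle (by omega) (hs i j hij)
  have hL' : ∀ i, (seq i).1 - L ∈ ((IsLocalRing.maximalIdeal R) ^ i • ⊤ : Submodule R M) := fun i => SModEq.sub_mem.1 (hL i)
  have hL0 : L = 0 := hbot L fun p => mem_of_forall_mem_sup (F p) fun t => by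
    have h2 : F (Q (N + t)) ⊔ (IsLocalRing.maximalIdeal R) ^ (N + t) • ⊤ ≤ F p ⊔ (IsLocalRing.maximalIdeal R) ^ t • ⊤ :=
      sup_le ((hQ (N + t) (max (Q (N + t)) p) (le_max_left _ _)).trans
        (sup_le_sup (hanti (le_max_right _ _)) (hle (by omega)))) ((hle (by omega)).trans le_sup_right)
    simpa using sub_mem (h2 (seq t).2) (Submodule.mem_sup_right (hL' t))
  have h1 : (seq N).1 - L ∈ ((IsLocalRing.maximalIdeal R) ^ N • ⊤ : Submodule R M) := hL' N
  have h2 : (seq N).1 - (seq 0).1 ∈ ((IsLocalRing.maximalIdeal R) ^ N • ⊤ : Submodule R M) := hs 0 N (Nat.zero_le _)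
  rw [hL0, sub_zero] at h1
  simpa [seq] using sub_mem h1 h2

theorem exists_limit (F : ℕ → Submodule R M) (hanti : Antitone F) (hbot : ∀ x, (∀ q, x ∈ F q) → x = 0)
    (hF : ∀ n, (IsLocalRing.maximalIdeal R) ^ n • ⊤ ≤ F n) (x : ℕ → M) (hx : ∀ n, x (n + 1) - x n ∈ F n) : ∃ y, ∀ n, y - x n ∈ F n := by
  haveI := AdicLib.isAdicComplete_of_finite (IsLocalRing.maximalIdeal R) M
  have hd : ∀ {i j : ℕ}, i ≤ j → x j - x i ∈ F i := by
    intro i j hij
    induction j, hij using Nat.le_induction with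
    | base => simp
    | succ j hij ih => simpa using add_mem (hanti hij (hx j)) ih
  choose g hg using fun N => chevalley F hanti hbot N
  let h : ℕ → ℕ := fun N => ∑ i ∈ Finset.range (N + 1), (g i + i)
  have hgh : ∀ N, g N + N ≤ h N := fun N =>
    Finset.single_le_sum (f := fun i => g i + i) (fun i _ => Nat.zero_le _) (Finset.self_mem_range_succ N)
  have hmono : Monotone h := fun a b hab => Finset.sum_le_sum_of_subset (Finset.range_subset_range.2 (by omega))
  have hle : ∀ {i j : ℕ}, i ≤ j → ((IsLocalRing.maximalIdeal R) ^ j • ⊤ : Submodule R M) ≤ (IsLocalRing.maximalIdeal R) ^ i • ⊤ := fun h =>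
    Submodule.smul_mono (Ideal.pow_le_pow_right h) le_rfl
  obtain ⟨y, hy⟩ := IsPrecomplete.prec' (I := (IsLocalRing.maximalIdeal R)) (fun N => x (h N)) fun {i j} hij => by
    rw [SModEq.sub_mem, ← neg_mem_iff, neg_sub]
    exact hg i (hanti (by have := hgh i; omega) (hd (hmono hij)))
  refine ⟨y, fun n => ?_⟩
  have h1 : x (h n) - y ∈ F n := hF n (SModEq.sub_mem.1 (hy n))
  have h2 : x (h n) - x n ∈ F n := hd (by have := hgh n; omega)
  simpa using sub_mem h2 h1

end Chevalley

section Fixed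

open Groth.Agent.ComodLib

variable {k : Type u} [Field k] {H : Type v} [CommRing H] [HopfAlgebra k H]
  {A : Type w} [CommRing A] [Algebra k A] [IsNoetherianRing A]
  [HopfRep.Comod k H A] [GLin.IsCoactAlg k H A]
  {M : Type w'} [AddCommGroup M] [Module k M] [Module A M] [IsScalarTower k A M] [Module.Finite A M]
  [HopfRep.Comod k H M] [TameAct.IsHopfMod k H A M] {α : H →ₗ[k] k}

theorem rey_smul_invariant (hα : IsIntegral k α) (h1 : α 1 = 1) {a : A} (ha : a ∈ GLin.invariants k H A) {y : M}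
    (hy : y ∈ HopfRep.fixedPts k H M) : a • y ∈ HopfRep.fixedPts k H M := by
  rw [← rey_eq_self_iff hα h1, rey_smul_fixed a hy, rey_of_fixed h1 (show a ∈ HopfRep.fixedPts k H A from ha)]

variable (m : Ideal A) [m.IsMaximal] (hm : HopfRep.IsSubcomod (k := k) (A := H) (m.restrictScalars k))
  [IsLocalRing ↥(GLin.invariants k H A)]

include hm in
theorem maximal_le (hα : IsIntegral k α) (h1 : α 1 = 1) {a : ↥(GLin.invariants k H A)}
    (ha : a ∈ IsLocalRing.maximalIdeal ↥(GLin.invariants k H A)) : (a : A) ∈ m := by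
  by_contra h
  obtain ⟨c, hc⟩ := Ideal.IsMaximal.exists_inv (inferInstance : m.IsMaximal) h
  obtain ⟨i, hi, hci⟩ := hc
  have h2 : rey α i ∈ m := rey_mem_of_isSubcomod hm hi
  have h3 : rey α c * (a : A) + rey α i = 1 := by
    rw [← rey_mul_invariant c a.2, ← map_add, hci,
      rey_of_fixed h1 (show (1 : A) ∈ HopfRep.fixedPts k H A from (GLin.invariants k H A).one_mem)]
  let c' : ↥(GLin.invariants k H A) := ⟨rey α c, rey_mem_fixedPts hα c⟩
  let i' : ↥(GLin.invariants k H A) := ⟨rey α i, rey_mem_fixedPts hα i⟩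
  have h4 : c' * a + i' = 1 := Subtype.ext h3
  have h5 : IsUnit i' := by
    by_contra h6
    exact (IsLocalRing.maximalIdeal.isMaximal ↥(GLin.invariants k H A)).ne_top ((Ideal.eq_top_iff_one _).2
      (h4 ▸ Ideal.add_mem _ (Ideal.mul_mem_left _ _ ha) ((IsLocalRing.mem_maximalIdeal _).2 h6)))
  exact (inferInstance : m.IsMaximal).ne_top
    (Ideal.eq_top_of_isUnit_mem _ h2 (h5.map (GLin.invariants k H A).val))

include hm in
theorem separated (hα : IsIntegral k α) (h1 : α 1 = 1) {x : M} (hx : x ∈ HopfRep.fixedPts k H M)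
    (h : ∀ n : ℕ, x ∈ (m ^ n • ⊤ : Submodule A M)) : x = 0 := by
  obtain ⟨⟨r, hr⟩, hrx⟩ := (Ideal.mem_iInf_smul_pow_eq_bot_iff m x).1 ((Submodule.mem_iInf _).2 h)
  have h2 : rey α r • x = x := by
    rw [← rey_smul_fixed r hx, show r • x = x from hrx, rey_of_fixed h1 hx]
  let r' : ↥(GLin.invariants k H A) := ⟨rey α r, rey_mem_fixedPts hα r⟩
  have hr' : r' ∈ IsLocalRing.maximalIdeal ↥(GLin.invariants k H A) := by
    rw [IsLocalRing.mem_maximalIdeal]
    intro hu
    exact (inferInstance : m.IsMaximal).ne_top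
      (Ideal.eq_top_of_isUnit_mem _ (rey_mem_of_isSubcomod (α := α) hm hr) (hu.map (GLin.invariants k H A).val))
  have h3 := (IsLocalRing.isUnit_one_sub_self_of_mem_nonunits r' hr').map (GLin.invariants k H A).val
  refine h3.smul_left_cancel.1 ?_
  rw [smul_zero, map_sub, map_one, Subalgebra.val_apply, sub_smul, one_smul, h2, sub_self]

include hm in
theorem complete [IsNoetherianRing ↥(GLin.invariants k H A)]
    [IsAdicComplete (IsLocalRing.maximalIdeal ↥(GLin.invariants k H A)) ↥(GLin.invariants k H A)]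
    (hα : IsIntegral k α) (h1 : α 1 = 1) (x : ℕ → M) (hx : ∀ n, x n ∈ HopfRep.fixedPts k H M)
    (hd : ∀ n, x (n + 1) - x n ∈ (m ^ n • ⊤ : Submodule A M)) :
    ∃ y ∈ HopfRep.fixedPts k H M, ∀ n, y - x n ∈ (m ^ n • ⊤ : Submodule A M) := by
  classical
  let G : Submodule ↥(GLin.invariants k H A) M :=
    { carrier := HopfRep.fixedPts k H M
      add_mem' := fun ha hb => (HopfRep.fixedPts k H M).add_mem ha hb
      zero_mem' := (HopfRep.fixedPts k H M).zero_mem
      smul_mem' := fun a _ hy => rey_smul_invariant hα h1 a.2 hy }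
  haveI : IsNoetherian A M := isNoetherian_of_isNoetherianRing_of_finite A M
  haveI : Module.Finite ↥(GLin.invariants k H A) G := by
    obtain ⟨s, hs, hspan⟩ := exists_finset_fixedPts (R := A) (M := M) hα h1
    refine Module.Finite.iff_fg.2 ⟨s, le_antisymm (Submodule.span_le.2 hs) fun y hy => ?_⟩
    obtain ⟨c, hc, e⟩ := hspan y hy
    rw [e]
    exact Submodule.sum_mem _ fun z hz => by
      have : c z • z = (⟨c z, hc z hz⟩ : ↥(GLin.invariants k H A)) • z := rfl
      rw [this]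
      exact Submodule.smul_mem _ _ (Submodule.subset_span hz)
  let F : ℕ → Submodule ↥(GLin.invariants k H A) G := fun n =>
    ((m ^ n • ⊤ : Submodule A M).restrictScalars ↥(GLin.invariants k H A)).comap G.subtype
  have hanti : Antitone F := fun a b hab => Submodule.comap_mono fun z hz =>
    Submodule.smul_mono (Ideal.pow_le_pow_right hab) le_rfl hz
  have hF : ∀ n, IsLocalRing.maximalIdeal ↥(GLin.invariants k H A) ^ n • ⊤ ≤ F n := fun n => by
    refine Submodule.smul_le.2 fun r hr z _ => ?_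
    show (r : A) • (z : M) ∈ (m ^ n • ⊤ : Submodule A M)
    refine Submodule.smul_mem_smul ?_ Submodule.mem_top
    have h2 : (IsLocalRing.maximalIdeal ↥(GLin.invariants k H A)).map (GLin.invariants k H A).val.toRingHom ≤ m :=
      Ideal.map_le_iff_le_comap.2 fun a ha => maximal_le m hm hα h1 ha
    have h3 := Ideal.mem_map_of_mem (GLin.invariants k H A).val.toRingHom hr
    rw [Ideal.map_pow] at h3
    exact Ideal.pow_right_mono h2 n h3
  have hbot : ∀ z : G, (∀ q, z ∈ F q) → z = 0 := fun z hz => Subtype.ext (separated m hm hα h1 z.2 hz)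
  obtain ⟨y, hy⟩ := exists_limit F hanti hbot hF (fun n => ⟨x n, hx n⟩) hd
  exact ⟨y, y.2, hy⟩

end Fixed

end Groth.Agent.LunaFT
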